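import Cfsg.Agent.H380.RV.Inst
import Cfsg.Agent.H553.RV.LinA
import Cfsg.Agent.H750.RM.Eig

/-!
# S3849, P3: small elements of `GL_n(q)`, `GU_n(q)` (helper490)

* `exists_z` : a non scalar `r`-element of determinant one whose eigenvalues contain no full coset of `μ_r`, for `r` odd,
  `e r ≠ r - 1`, except for `n = r = 3`, `9 ∤ q - ε`.
-/

set_option autoImplicit false
set_option linter.unusedSectionVars false

namespace Cfsg.Agent.H490.RM

open Module Matrix Cfsg.Agent.H167.OP Cfsg.Agent.H170.HL Cfsg.Agent.H556.HallRowAbs Cfsg.Agent.H553.RV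
open Cfsg.Agent.H380.RV Cfsg.Agent.H750.RM

variable {F : Type*} [Field F] {n : ℕ} {Y : Type*} [Group Y] [Finite Y] {φ : F → F → F}
  {μ : Y →* Matrix (Fin n) (Fin n) F} {e : ℕ → ℕ}

theorem phi_zero (h : Dt φ μ e) (c : F) : φ 0 c = 0 := by
  have h1 := h.addl 0 0 c
  rw [add_zero] at h1
  exact left_eq_add.1 h1

theorem diag_pres {ι : Type*} [Fintype ι] [DecidableEq ι] {d : ι → F} (hd : ∀ i a b, φ (d i * a) (d i * b) = φ a b) :
    Pres φ (diagonal d) := by
  intro u v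
  rw [Bf, Bf]
  refine Finset.sum_congr rfl fun i _ => ?_
  rw [mulVec_diagonal, mulVec_diagonal, hd]

theorem exists_diag (h : Dt φ μ e) {d : Fin n → F} (hd0 : ∀ i, d i ≠ 0) (hd : ∀ i a b, φ (d i * a) (d i * b) = φ a b) :
    ∃ y : Y, μ y = diagonal d := by
  refine h.sur _ ?_ (diag_pres hd)
  rw [Matrix.isUnit_iff_isUnit_det, det_diagonal]
  exact isUnit_iff_ne_zero.2 (Finset.prod_ne_zero_iff.2 fun i _ => hd0 i)

/-- a scalar of order `r` in `Y` : `e r = 1` -/
theorem scalar_one (h : Dt φ μ e) (hn : 0 < n) {r : ℕ} (hr : r.Prime) (hodd : Odd r) (hrF : (r : F) ≠ 0) (he1 : e r ≠ 1)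
    {y : Y} {c : F} (hc : μ y = c • (1 : Matrix (Fin n) (Fin n) F)) (hy : y ^ r = 1) : y = 1 := by
  have hc1 : ∀ a b, φ (c * a) (c * b) = φ a b := by
    intro a b
    have h1 := h.pres y (Pi.single ⟨0, hn⟩ a) (Pi.single ⟨0, hn⟩ b)
    rw [hc, smul_mulVec, one_mulVec, smul_mulVec, one_mulVec, Bf, Bf, Finset.sum_eq_single ⟨0, hn⟩,
      Finset.sum_eq_single ⟨0, hn⟩] at h1
    · simpa using h1
    · intro j _ hj
      rw [Pi.single_eq_of_ne hj, phi_zero h]
    · intro h2; exact absurd (Finset.mem_univ _) h2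
    · intro j _ hj
      rw [Pi.smul_apply, Pi.single_eq_of_ne hj, smul_zero, phi_zero h]
    · intro h2; exact absurd (Finset.mem_univ _) h2
  have hcr : c ^ r = 1 := by
    have h1 : μ (y ^ r) = c ^ r • (1 : Matrix (Fin n) (Fin n) F) := by
      rw [map_pow, hc, smul_pow, one_pow]
    rw [hy, map_one] at h1
    have h2 := congrFun (congrFun h1 ⟨0, hn⟩) ⟨0, hn⟩
    rw [Matrix.one_apply_eq, Matrix.smul_apply, Matrix.one_apply_eq, smul_eq_mul, mul_one] at h2
    exact h2.symm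
  have hpos := h.row.epos r hr hrF
  have h3 := h.det r hr hodd hrF he1 (diagonal (Function.update 1 ⟨0, hpos⟩ c)) (by
    rw [diagonal_pow, ← diagonal_one]
    congr 1
    funext i
    rw [Pi.pow_apply]
    by_cases hi : i = ⟨0, hpos⟩
    · rw [hi, Function.update_self, hcr]
    · rw [Function.update_of_ne hi, Pi.one_apply, one_pow]) (diag_pres fun i a b => by
    by_cases hi : i = ⟨0, hpos⟩
    · rw [hi, Function.update_self, hc1]
    · rw [Function.update_of_ne hi, Pi.one_apply, one_mul, one_mul])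
  rw [det_diagonal, Finset.prod_update_of_mem (Finset.mem_univ _)] at h3
  simp only [Pi.one_apply, Finset.prod_const_one, mul_one] at h3
  apply h.inj
  rw [hc, h3, one_smul, map_one]

/-- the block element -/
theorem exists_block (h : Dt φ μ e) {X : Subgroup Y} (hX : ∀ y, y ∈ X ↔ (μ y).det = 1) {r : ℕ} (hr : r.Prime)
    (hodd : Odd r) (hrF : (r : F) ≠ 0) (he : e r ≠ r - 1) (he1 : e r ≠ 1) (hd : r ∣ Nat.card Y) :
    ∃ z ∈ X, z ^ r = 1 ∧ (∀ c : F, μ z ≠ c • (1 : Matrix (Fin n) (Fin n) F)) ∧ rk (rep μ) z + 1 < r := by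
  have hpos := h.row.epos r hr hrF
  have hdvd := h.row.edvd r hr hrF
  have hle : e r ≤ n := by
    have := Fact.mk hr
    obtain ⟨y, hy⟩ := exists_prime_orderOf_dvd_card' r hd
    have h1 : y ≠ 1 := by
      rintro rfl
      rw [orderOf_one] at hy
      exact hr.one_lt.ne hy
    have h2 : y ^ r = 1 := by rw [← hy]; exact pow_orderOf_eq_one y
    have h3 := le_rk_of_ne h.row hr hodd hrF h2 h1
    refine h3.trans ((Submodule.finrank_le _).trans ?_)
    rw [finrank_fin_fun]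
  have hr3 : e r + 1 < r := by
    obtain ⟨k, hk⟩ := hdvd
    have h2 := hr.two_le
    have hk2 : 2 ≤ k := by
      rcases k with _ | _ | k
      · rw [mul_zero] at hk; omega
      · rw [zero_add, mul_one] at hk; exact absurd hk.symm he
      · omega
    have h3 : e r * 2 ≤ e r * k := Nat.mul_le_mul_left _ hk2
    omega
  obtain ⟨z0, hz0, hz1, hzp⟩ := h.ex r hr hodd hrF
  obtain ⟨ε⟩ := exists_eps (e r) 1 (n - e r) n (by omega)
  obtain ⟨z, hz⟩ := h.sur _ (isUnit_of_pow hr.ne_zero (by rw [Zi_pow, hz0, Zi_one])) (Zi_pres ε hzp 0)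
  have hzr : z ^ r = 1 := h.inj (by rw [map_pow, hz, Zi_pow, hz0, Zi_one, map_one])
  have hzn : z ≠ 1 := by
    intro h1
    apply hz1
    apply Zi_inj ε (i := 0)
    rw [← hz, h1, map_one]
  refine ⟨z, (hX z).2 ?_, hzr, ?_, ?_⟩
  · rw [hz, Zi, Ps_det]
    simp only [Fin.isValue, Finset.univ_unique, Fin.default_eq_zero, Finset.prod_singleton, Pi.mulSingle_eq_same, Pi.one_apply,
      Finset.prod_const_one, mul_one]
    exact h.det r hr hodd hrF he1 z0 hz0 hzp
  · intro c hc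
    exact hzn (scalar_one h (by omega) hr hodd hrF he1 hc hzr)
  · have h4 := rk_Zi_le ε hz
    rw [Fintype.card_fin] at h4
    omega

/-! ### diagonal elements -/

section diag

variable {L : Type*} [Field L] [Algebra F L]

theorem rep_charpoly (y : Y) : (rep μ y).charpoly = (μ y).charpoly := by
  have h1 : rep μ y = Matrix.toLin' (μ y) := LinearMap.ext fun v => by rw [toLin'_apply]; rfl
  rw [h1, Matrix.charpoly_toLin']

theorem root_diagonal {d : Fin n → F} {x : L} (h : (((diagonal d).charpoly).map (algebraMap F L)).IsRoot x) :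
    ∃ i, x = algebraMap F L (d i) := by
  rw [charpoly_diagonal, Polynomial.map_prod, Polynomial.IsRoot, Polynomial.eval_prod, Finset.prod_eq_zero_iff] at h
  obtain ⟨i, -, hi⟩ := h
  refine ⟨i, ?_⟩
  rw [Polynomial.map_sub, Polynomial.map_X, Polynomial.map_C, Polynomial.eval_sub, Polynomial.eval_X, Polynomial.eval_C] at hi
  exact sub_eq_zero.1 hi

end diag

theorem exists_diag_z (h : Dt φ μ e) {X : Subgroup Y} (hX : ∀ y, y ∈ X ↔ (μ y).det = 1) {d : Fin n → F}
    (hd0 : ∀ i, d i ≠ 0) (hd : ∀ i a b, φ (d i * a) (d i * b) = φ a b) (hprod : ∏ i, d i = 1) {i j : Fin n}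
    (hij : d i ≠ d j) {k : ℕ} (hk : ∀ i, d i ^ k = 1) :
    ∃ z ∈ X, z ^ k = 1 ∧ (∀ c : F, μ z ≠ c • (1 : Matrix (Fin n) (Fin n) F)) ∧ μ z = diagonal d := by
  obtain ⟨z, hz⟩ := exists_diag h hd0 hd
  refine ⟨z, (hX z).2 (by rw [hz, det_diagonal, hprod]), ?_, ?_, hz⟩
  · apply h.inj
    rw [map_pow, hz, diagonal_pow, map_one, ← diagonal_one]
    congr 1
    funext i
    rw [Pi.pow_apply, hk]
  · intro c hc
    apply hij
    rw [hz] at hc
    have h1 : ∀ i, d i = c := fun i => by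
      have := congrFun (congrFun hc i) i
      rwa [diagonal_apply_eq, Matrix.smul_apply, Matrix.one_apply_eq, smul_eq_mul, mul_one] at this
    rw [h1, h1]

/-- the eigenvalues in a small set -/
theorem noCoset_diag {L : Type*} [Field L] [IsAlgClosed L] [Algebra F L] {r : ℕ} (hr : r.Prime) (hrF : (r : F) ≠ 0)
    {z : Y} {d : Fin n → F} (hz : μ z = diagonal d) (S : Finset F) (hS : ∀ i, d i ∈ S) (hcard : S.card < r) :
    NoCoset L r (rep μ z).charpoly := by
  classical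
  rw [rep_charpoly, hz]
  refine noCoset_of_finset hr.pos ?_ (S.image (algebraMap F L)) ?_ (Finset.card_image_le.trans_lt hcard)
  · intro h
    apply hrF
    rw [← map_natCast (algebraMap F L)] at h
    exact (map_eq_zero _).1 h
  · intro x hx
    obtain ⟨i, rfl⟩ := root_diagonal hx
    exact Finset.mem_image_of_mem _ (hS i)

theorem exists_omega (h : Dt φ μ e) {r : ℕ} (hr : r.Prime) (hodd : Odd r) (hrF : (r : F) ≠ 0) (he1 : e r = 1) :
    ∃ ω : F, ω ^ r = 1 ∧ ω ≠ 1 ∧ ∀ a b, φ (ω * a) (ω * b) = φ a b := by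
  have hC := h.ex r hr hodd hrF
  rw [he1] at hC
  obtain ⟨C, hC, hC1, hCp⟩ := hC
  obtain ⟨c, rfl⟩ : ∃ c : F, C = diagonal fun _ => c := ⟨C 0 0, by
    ext i j
    rw [Subsingleton.elim i 0, Subsingleton.elim j 0, diagonal_apply_eq]⟩
  refine ⟨c, ?_, ?_, fun a b => ?_⟩
  · rw [diagonal_pow] at hC
    have := congrFun (congrFun hC 0) 0
    rwa [diagonal_apply_eq, Pi.pow_apply, Matrix.one_apply_eq] at this
  · rintro rfl
    exact hC1 diagonal_one
  · have := hCp (fun _ => a) (fun _ => b)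
    rw [Bf, Bf, Fin.sum_univ_one, Fin.sum_univ_one, mulVec_diagonal, mulVec_diagonal] at this
    exact this

theorem phi_inv {ω : F} (h0 : ω ≠ 0) (hω : ∀ a b, φ (ω * a) (ω * b) = φ a b) (a b : F) :
    φ (ω⁻¹ * a) (ω⁻¹ * b) = φ a b := by
  rw [← hω (ω⁻¹ * a), ← mul_assoc, ← mul_assoc, mul_inv_cancel₀ h0, one_mul, one_mul]

/-- the diagonal `(ω, ω⁻¹, 1, …, 1)` -/
def dd (n : ℕ) (hn : 2 ≤ n) (ω : F) : Fin n → F := Function.update (Function.update 1 ⟨0, by omega⟩ ω) ⟨1, by omega⟩ ω⁻¹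

theorem dd_mem (hn : 2 ≤ n) (ω : F) (i : Fin n) : dd n hn ω i = ω ∨ dd n hn ω i = ω⁻¹ ∨ (dd n hn ω i = 1 ∧ 2 ≤ (i : ℕ)) := by
  rw [dd]
  by_cases h1 : i = ⟨1, by omega⟩
  · right; left
    rw [h1, Function.update_self]
  · rw [Function.update_of_ne h1]
    by_cases h0 : i = ⟨0, by omega⟩
    · left
      rw [h0, Function.update_self]
    · right; right
      refine ⟨by rw [Function.update_of_ne h0]; rfl, ?_⟩
      have h2 : (i : ℕ) ≠ 1 := fun h => h1 (Fin.ext h)
      have h3 : (i : ℕ) ≠ 0 := fun h => h0 (Fin.ext h)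
      omega

theorem dd_zero (hn : 2 ≤ n) (ω : F) : dd n hn ω ⟨0, by omega⟩ = ω := by
  rw [dd, Function.update_of_ne (by intro h; exact absurd (congrArg Fin.val h) (by norm_num)), Function.update_self]

theorem dd_one (hn : 2 ≤ n) (ω : F) : dd n hn ω ⟨1, by omega⟩ = ω⁻¹ := by rw [dd, Function.update_self]

theorem dd_prod (hn : 2 ≤ n) {ω : F} (h0 : ω ≠ 0) : ∏ i, dd n hn ω i = 1 := by
  rw [dd, Finset.prod_update_of_mem (Finset.mem_univ _), Finset.prod_update_of_mem (by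
    rw [Finset.mem_sdiff, Finset.mem_singleton]
    exact ⟨Finset.mem_univ _, by intro h; exact absurd (congrArg Fin.val h) (by norm_num)⟩)]
  simp only [Pi.one_apply, Finset.prod_const_one, mul_one]
  exact inv_mul_cancel₀ h0

theorem dd_all (hn : 2 ≤ n) {ω : F} {P : F → Prop} (h1 : P ω) (h2 : P ω⁻¹) (h3 : P 1) (i : Fin n) : P (dd n hn ω i) := by
  rcases dd_mem hn ω i with h | h | h
  · rw [h]; exact h1
  · rw [h]; exact h2
  · rw [h.1]; exact h3

/-- **the element** -/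
theorem exists_z (L : Type*) [Field L] [IsAlgClosed L] [Algebra F L] (h : Dt φ μ e) {X : Subgroup Y}
    (hX : ∀ y, y ∈ X ↔ (μ y).det = 1) (hn : 2 ≤ n) {r : ℕ} (hr : r.Prime) (hodd : Odd r) (hrF : (r : F) ≠ 0)
    (he : e r ≠ r - 1) (hd : r ∣ Nat.card Y)
    (hex : ¬ (r = 3 ∧ n = 3) ∨ ∃ l : F, l ^ 3 ≠ 1 ∧ l ^ 9 = 1 ∧ ∀ a b, φ (l * a) (l * b) = φ a b) :
    ∃ z ∈ X, (∃ k, z ^ r ^ k = 1) ∧ (∀ c : F, μ z ≠ c • (1 : Matrix (Fin n) (Fin n) F)) ∧
      NoCoset L r (rep μ z).charpoly := by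
  classical
  have hrL : (r : L) ≠ 0 := by
    intro h
    apply hrF
    rw [← map_natCast (algebraMap F L)] at h
    exact (map_eq_zero _).1 h
  by_cases he1 : e r = 1
  swap
  · obtain ⟨z, hzX, hzr, hzc, hrk⟩ := exists_block h hX hr hodd hrF he he1 hd
    exact ⟨z, hzX, ⟨1, by rw [pow_one, hzr]⟩, hzc, noCoset_of_rank hrL _ hrk⟩
  obtain ⟨ω, hω, hω1, hωp⟩ := exists_omega h hr hodd hrF he1
  have h0 : ω ≠ 0 := by
    rintro rfl
    rw [zero_pow hr.ne_zero] at hω
    exact zero_ne_one hω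
  have hne : ω ≠ ω⁻¹ := by
    intro h1
    have h2 : ω ^ 2 = 1 := by
      rw [pow_two]
      conv_lhs => rw [h1]
      rw [← mul_inv]
      have : ω * ω = ω * ω⁻¹ := by rw [← h1]
      rw [this, mul_inv_cancel₀ h0, inv_one]
    obtain ⟨k, hk⟩ := hodd
    rw [hk, pow_add, pow_mul, h2, one_pow, one_mul, pow_one] at hω
    exact hω1 hω
  have hr2 := hr.two_le
  by_cases h3 : r = 3
  swap
  · -- `r ≥ 5`
    have hr5 : 5 ≤ r := by
      have h2 : r ≠ 2 := by rintro rfl; exact absurd hodd (by decide)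
      have h4 : r ≠ 4 := by rintro rfl; exact absurd hr (by norm_num)
      omega
    obtain ⟨z, hzX, hzr, hzc, hzd⟩ := exists_diag_z h hX (d := dd n hn ω) (fun i => dd_all (P := fun c => c ≠ 0) hn h0 (inv_ne_zero h0) one_ne_zero i)
      (fun i => dd_all (P := fun c => ∀ a b, φ (c * a) (c * b) = φ a b) hn hωp (phi_inv h0 hωp)
        (fun a b => by rw [one_mul, one_mul]) i) (dd_prod hn h0) (i := ⟨0, by omega⟩) (j := ⟨1, by omega⟩)
      (by rw [dd_zero, dd_one]; exact hne) (k := r)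
      (fun i => dd_all (P := fun c => c ^ r = 1) hn hω (by rw [inv_pow, hω, inv_one]) (one_pow _) i)
    refine ⟨z, hzX, ⟨1, by rw [pow_one, hzr]⟩, hzc, noCoset_diag hr hrF hzd {1, ω, ω⁻¹} (fun i => ?_) ?_⟩
    · exact dd_all (P := fun c => c ∈ ({1, ω, ω⁻¹} : Finset F)) hn (by simp) (by simp) (by simp) i
    · have := Finset.card_le_three (a := (1 : F)) (b := ω) (c := ω⁻¹)
      omega
  subst h3
  by_cases hl : ∃ l : F, l ^ 3 ≠ 1 ∧ l ^ 9 = 1 ∧ ∀ a b, φ (l * a) (l * b) = φ a b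
  · obtain ⟨l, hl3, hl9, hlp⟩ := hl
    have hl0 : l ≠ 0 := by
      rintro rfl
      rw [zero_pow (by norm_num)] at hl9
      exact zero_ne_one hl9
    have hlne : l ≠ l⁻¹ := by
      intro h1
      have h2 : l * l = 1 := by
        conv_lhs => rw [h1]
        have : l * l = l * l⁻¹ := by rw [← h1]
        rw [← mul_inv, this, mul_inv_cancel₀ hl0, inv_one]
      apply hl3
      have h4 : l ^ 9 = (l * l) ^ 4 * l := by ring
      rw [h4, h2, one_pow, one_mul] at hl9
      rw [hl9, one_pow]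
    obtain ⟨z, hzX, hzr, hzc, hzd⟩ := exists_diag_z h hX (d := dd n hn l) (fun i => dd_all (P := fun c => c ≠ 0) hn hl0 (inv_ne_zero hl0) one_ne_zero i)
      (fun i => dd_all (P := fun c => ∀ a b, φ (c * a) (c * b) = φ a b) hn hlp (phi_inv hl0 hlp)
        (fun a b => by rw [one_mul, one_mul]) i) (dd_prod hn hl0) (i := ⟨0, by omega⟩) (j := ⟨1, by omega⟩)
      (by rw [dd_zero, dd_one]; exact hlne) (k := 9)
      (fun i => dd_all (P := fun c => c ^ 9 = 1) hn hl9 (by rw [inv_pow, hl9, inv_one]) (one_pow _) i)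
    refine ⟨z, hzX, ⟨2, hzr⟩, hzc, ?_⟩
    rw [rep_charpoly, hzd]
    refine noCoset_three (l := algebraMap F L l) ?_ (by exact_mod_cast hrL) fun x hx => ?_
    · rw [← map_pow]
      intro h1
      exact hl3 ((algebraMap F L).injective (by rw [h1, map_one]))
    · obtain ⟨i, rfl⟩ := root_diagonal hx
      refine dd_all (P := fun c => algebraMap F L c = 1 ∨ algebraMap F L c = algebraMap F L l ∨
        algebraMap F L c = (algebraMap F L l)⁻¹) hn (Or.inr (Or.inl rfl)) (Or.inr (Or.inr (map_inv₀ _ _)))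
        (Or.inl (map_one _)) i
  have hn3 : n ≠ 3 := fun h1 => (hex.resolve_right hl) ⟨rfl, h1⟩
  by_cases hn2 : n = 2
  · obtain ⟨z, hzX, hzr, hzc, hzd⟩ := exists_diag_z h hX (d := dd n hn ω) (fun i => dd_all (P := fun c => c ≠ 0) hn h0 (inv_ne_zero h0) one_ne_zero i)
      (fun i => dd_all (P := fun c => ∀ a b, φ (c * a) (c * b) = φ a b) hn hωp (phi_inv h0 hωp)
        (fun a b => by rw [one_mul, one_mul]) i) (dd_prod hn h0) (i := ⟨0, by omega⟩) (j := ⟨1, by omega⟩)
      (by rw [dd_zero, dd_one]; exact hne) (k := 3)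
      (fun i => dd_all (P := fun c => c ^ 3 = 1) hn hω (by rw [inv_pow, hω, inv_one]) (one_pow _) i)
    refine ⟨z, hzX, ⟨1, by rw [pow_one, hzr]⟩, hzc, noCoset_diag hr hrF hzd {ω, ω⁻¹} (fun i => ?_) ?_⟩
    · rcases dd_mem hn ω i with h1 | h1 | h1
      · rw [h1]; simp
      · rw [h1]; simp
      · have := i.2
        omega
    · have := Finset.card_le_two (a := ω) (b := ω⁻¹)
      omega
  · -- `n ≥ 4`
    have hn4 : 4 ≤ n := by omega
    set d : Fin n → F := fun i => if (i : ℕ) < 3 then ω else 1 with hdd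
    have hall : ∀ {P : F → Prop}, P ω → P 1 → ∀ i, P (d i) := by
      intro P h1 h2 i
      rw [hdd]
      beta_reduce
      split_ifs
      · exact h1
      · exact h2
    have hprod : ∏ i, d i = 1 := by
      rw [hdd, Finset.prod_ite, Finset.prod_const_one, mul_one, Finset.prod_const]
      have h1 : (Finset.univ.filter fun i : Fin n => (i : ℕ) < 3).card = 3 := by
        rw [Fin.card_filter_val_lt]
        omega
      rw [h1, hω]
    obtain ⟨z, hzX, hzr, hzc, hzd⟩ := exists_diag_z h hX (d := d) (hall (P := fun c => c ≠ 0) h0 one_ne_zero)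
      (hall (P := fun c => ∀ a b, φ (c * a) (c * b) = φ a b) hωp (fun a b => by rw [one_mul, one_mul])) hprod
      (i := ⟨0, by omega⟩) (j := ⟨3, by omega⟩) (by rw [hdd]; simpa using hω1) (k := 3)
      (hall (P := fun c => c ^ 3 = 1) hω (one_pow _))
    refine ⟨z, hzX, ⟨1, by rw [pow_one, hzr]⟩, hzc, noCoset_diag hr hrF hzd {ω, 1} (fun i => ?_) ?_⟩
    · exact hall (P := fun c => c ∈ ({ω, 1} : Finset F)) (by simp) (by simp) i
    · have := Finset.card_le_two (a := ω) (b := (1 : F))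
      omega

end Cfsg.Agent.H490.RM
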