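import Cfsg.Agent.H490.RM.Tr
import Cfsg.Agent.H490.RM.Elt

/-!
# S3849, P3: `SL_n(q)`, `SU_n(q)`, `e r ≠ r - 1` (helper490)
-/

set_option autoImplicit false
set_option linter.unusedSectionVars false

namespace Cfsg.Agent.H490.RM

open Subgroup Module Matrix Cfsg Cfsg.Agent.H988.CPi Cfsg.Agent.H571.DExt Cfsg.Agent.H571.RV Cfsg.Agent.H571.RM
open Cfsg.Agent.H167.OP Cfsg.Agent.H170.HL Cfsg.Agent.H380.RV Cfsg.Agent.H750.RM

universe u

variable {π : Set ℕ} {F : Type*} [Field F] {n : ℕ} {Y : Type*} [Group Y] [Finite Y] {φ : F → F → F}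
  {μ : Y →* Matrix (Fin n) (Fin n) F} {e : ℕ → ℕ}

/-- the order of a `π`-group is not zero in `F` -/
theorem card_ne_zero_of_piN (hp : ∀ r ∈ π, r.Prime → (r : F) ≠ 0) {m : ℕ} (hm0 : m ≠ 0) (hm : PiN π m) : (m : F) ≠ 0 := by
  induction m using Nat.recOnMul with
  | zero => exact absurd rfl hm0
  | one => simp
  | prime q hq => exact hp q (hm q hq dvd_rfl) hq
  | mul a b ha hb =>
    rw [Nat.cast_mul]
    have ha0 : a ≠ 0 := by rintro rfl; rw [zero_mul] at hm0; exact hm0 rfl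
    have hb0 : b ≠ 0 := by rintro rfl; rw [mul_zero] at hm0; exact hm0 rfl
    exact mul_ne_zero (ha ha0 fun q hq hd => hm q hq (hd.mul_right b)) (hb hb0 fun q hq hd => hm q hq (hd.mul_left a))

/-- the elements normalising `A ∩ X` centralise it, if their eigenvalues contain no coset -/
theorem comm_of_noCoset (h : Dt φ μ e) (X : Subgroup Y) (hp : ∀ r ∈ π, r.Prime → (r : F) ≠ 0)
    {r : ℕ} {H A : Subgroup Y} (hH : IsPiHall π H) (hFd : FHd r H A) (hrπ : r ∈ π) {z : X} {k : ℕ} (hz : z ^ r ^ k = 1)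
    (hco : NoCoset (AlgebraicClosure F) r (rep μ (z : Y)).charpoly) (g : X)
    (hg : g * z * g⁻¹ ∈ normalizer ((A.subgroupOf X : Subgroup X) : Set X)) :
    ∀ a ∈ A.subgroupOf X, (g * z * g⁻¹) * a = a * (g * z * g⁻¹) := by
  intro a ha
  have h1 := eig_end (L := AlgebraicClosure F) ((rep μ).comp X.subtype) (A := A.subgroupOf X) (r := r)
    (z := g * z * g⁻¹) (m := k)
    (fun a ha b hb => Subtype.ext (hFd.ab a ha b hb)) ?_ hFd.hr (hp r hrπ hFd.hr)
    (fun b hb => (Subgroup.mem_normalizer_iff.1 hg b).1 hb) ?_ ?_ a ha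
  · rw [← map_mul, ← map_mul] at h1
    exact Subtype.ext (rep_injective h.inj h1)
  · refine card_ne_zero_of_piN hp Nat.card_pos.ne' (PiN.of_dvd hH.1 ?_)
    refine (Subgroup.card_comap_dvd_of_injective A X.subtype X.subtype_injective).trans (card_dvd_of_le hFd.ale)
  · intro b _
    have h2 : (g * z * g⁻¹) ^ r ^ k = 1 := by rw [conj_pow, hz, mul_one, mul_inv_cancel]
    rw [h2, map_one, one_mul, mul_one]
  · have h3 : (((rep μ).comp X.subtype) (g * z * g⁻¹)).charpoly = (rep μ (z : Y)).charpoly := by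
      show (rep μ ((g : Y) * z * (g : Y)⁻¹)).charpoly = _
      rw [rep_charpoly, rep_charpoly, map_mul, map_mul]
      have h4 := Matrix.charpoly_units_conj (Units.map μ (toUnits (g : Y))) (μ (z : Y))
      rw [← Matrix.coe_units_inv] at h4
      exact h4
    rw [h3]
    exact hco

/-- **the case `e r ≠ r - 1`** -/
theorem rowM_alpha {S : Type u} [Group S] [Finite S] [IsSimpleGroup S] (hna : ∃ a b : S, a * b ≠ b * a)
    (h : Dt φ μ e) (X : Subgroup Y) [X.Normal] (hX : ∀ y, y ∈ X ↔ (μ y).det = 1) (f : X →* S)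
    (hf : Function.Surjective f) (hker : f.ker ≤ center X)
    (hsc : ∀ x : X, f x = 1 → ∃ c : F, μ (x : Y) = c • (1 : Matrix (Fin n) (Fin n) F)) (hn : 2 ≤ n) (h2 : 2 ∉ π)
    (hp : ∀ r ∈ π, r.Prime → (r : F) ≠ 0) {r : ℕ} {H A : Subgroup Y} (hH : IsPiHall π H) (hFd : FHd r H A)
    (hrπ : r ∈ π) (hd : r ∣ Nat.card Y) (he : e r ≠ r - 1)
    (hex : ¬ (r = 3 ∧ n = 3) ∨ ∃ l : F, l ^ 3 ≠ 1 ∧ l ^ 9 = 1 ∧ ∀ a b, φ (l * a) (l * b) = φ a b) : RowM π S := by
  have hodd : Odd r := hFd.hr.odd_of_ne_two (by rintro rfl; exact h2 hrπ)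
  obtain ⟨z, hzX, ⟨k, hzk⟩, hzc, hco⟩ := exists_z (AlgebraicClosure F) h hX hn hFd.hr hodd (hp r hrπ hFd.hr) he hd hex
  have hzk' : (⟨z, hzX⟩ : X) ^ r ^ k = 1 := Subtype.ext hzk
  refine rowM_cover hna X f hf hker hH hFd hrπ (z := ⟨z, hzX⟩) ?_ ⟨k, hzk'⟩ ?_
  · intro h1
    obtain ⟨c, hc⟩ := hsc _ h1
    exact hzc c hc
  · intro g hg
    exact comm_of_noCoset h X hp hH hFd hrπ hzk' hco g hg

end Cfsg.Agent.H490.RM
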