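import Cfsg.Agent.H490.RM.Rows
import Cfsg.Agent.H479.RM.Gamma

/-!
# S3849, P3: `RowM` for `PSL_n(q)`, `PSU_n(q)`, `2, p ∉ π` (helper490; gamma case: helper479)
-/

set_option autoImplicit false

namespace Cfsg.Agent.H490.RM

open Subgroup Cfsg Cfsg.Agent.H571.RM

universe u

variable {π : Set ℕ} {S : Type u} [Group S] [Finite S] [IsSimpleGroup S]

theorem gammaP (π : Set ℕ) : GammaP.{u} π := by
  intro F _ V _ _ _ Y _ _ ρ e X H _ S _ _ _ hna D h2 hπ hH hdom f hf hker hk hγ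
  exact Cfsg.Agent.H479.RM.rowM_gamma hna D h2 hπ hH hdom f hf hker hk hγ

/-- **`PSL_n(q)`, `2, p ∉ π`** -/
theorem rowM_pslChar (hna : ∃ a b : S, a * b ≠ b * a) {p : ℕ} (h : IsPSLChar p S) (h2 : 2 ∉ π) (hp : p ∉ π) :
    RowM π S :=
  rowM_pslChar_of (gammaP π) hna h h2 hp

/-- **`PSU_n(q)`, `2, p ∉ π`** -/
theorem rowM_psuChar (hna : ∃ a b : S, a * b ≠ b * a) {p : ℕ} (h : IsPSUChar p S) (h2 : 2 ∉ π) (hp : p ∉ π) :
    RowM π S :=
  rowM_psuChar_of (gammaP π) hna h h2 hp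

end Cfsg.Agent.H490.RM
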