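import Cfsg.Agent.H490.RM.Three
import Cfsg.Agent.H553.RV.LinH
import Cfsg.Agent.H960.Card81
import Cfsg.Agent.ClassicalGeometry.PSUAutBasic

/-!
# S3849, P3: `RowM` for `PSL_n(q)`, `PSU_n(q)`, `2, p ∉ π`: assembly (helper490)
-/

set_option autoImplicit false
set_option linter.unusedSectionVars false

namespace Cfsg.Agent.H490.RM

open Subgroup Module Matrix Cfsg Cfsg.Agent.H988.CPi Cfsg.Agent.H571.DExt Cfsg.Agent.H571.RV Cfsg.Agent.H571.RM
open Cfsg.Agent.H167.OP Cfsg.Agent.H170.HL Cfsg.Agent.H380.RV Cfsg.Agent.H553.RV Cfsg.Agent.H750.RM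
open Cfsg.Agent.H556

universe u

/-- the case `e r = r - 1` (helper479) -/
def GammaP (π : Set ℕ) : Prop :=
  ∀ (F : Type) [Field F] (V : Type) [AddCommGroup V] [Module F V] [FiniteDimensional F V] (Y : Type) [Group Y] [Finite Y]
    (ρ : Representation F Y V) (e : ℕ → ℕ) (X H : Subgroup Y) [X.Normal] (S : Type u) [Group S] [Finite S]
    [IsSimpleGroup S], (∃ a b : S, a * b ≠ b * a) → LinDat ρ e X → 2 ∉ π → (∀ r ∈ π, r.Prime → (r : F) ≠ 0) →
    IsPiHall π H → DomX π X H → ∀ f : X →* S, Function.Surjective f → f.ker ≤ center X →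
    (∀ t, t.Prime → t ∣ Nat.card H → e t ≠ 1 → ¬ t ∣ Nat.card f.ker ∧ ∀ y : Y, y ^ t = 1 → y ∈ X) →
    e (Nat.card H).minFac = (Nat.card H).minFac - 1 → RowM π S

/-! ### the data for the smallest prime -/

section

variable {F : Type*} [Field F] {V : Type*} [AddCommGroup V] [Module F V] {Y : Type*} [Group Y]
  {ρ : Representation F Y V} [FiniteDimensional F V] [Finite Y] {e : ℕ → ℕ} {X H : Subgroup Y}

theorem fhd_of_cx (C : Cx ρ e X H) (h1 : Nat.card H ≠ 1) :
    FHd (Nat.card H).minFac H (closure (gens H (Nat.card H).minFac)) := by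
  have hr := Nat.minFac_prime h1
  obtain ⟨h3, h4, h5, h6, h7⟩ := C.structure_min hr (Nat.minFac_dvd _) fun t ht hd => Nat.minFac_le_of_dvd ht.two_le hd
  exact ⟨hr, h3, h4, h5, h6, h7⟩

end

/-! ### the abstract theorem -/

section

variable {π : Set ℕ} {F : Type} [Field F] {n : ℕ} {Y : Type} [Group Y] [Finite Y] {φ : F → F → F} {e : ℕ → ℕ}
  {μ : Y →* Matrix (Fin n) (Fin n) F}

/-- the special roots of unity -/
def HasNine (φ : F → F → F) : Prop := ∃ l : F, l ^ 3 ≠ 1 ∧ l ^ 9 = 1 ∧ ∀ a b, φ (l * a) (l * b) = φ a b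

theorem not_dvd_ker (h : Dt φ μ e) (hn : 0 < n) (X : Subgroup Y) {S : Type u} [Group S] (f : X →* S)
    (hsc : ∀ x : X, f x = 1 ↔ ∃ c : F, μ (x : Y) = c • (1 : Matrix (Fin n) (Fin n) F)) {t : ℕ} (ht : t.Prime)
    (hodd : Odd t) (htF : (t : F) ≠ 0) (he : e t ≠ 1) : ¬ t ∣ Nat.card f.ker := by
  intro hd
  have := Fact.mk ht
  obtain ⟨x, hx⟩ := exists_prime_orderOf_dvd_card' t hd
  obtain ⟨c, hc⟩ := (hsc x.1).1 (MonoidHom.mem_ker.1 x.2)
  have h1 : ((x.1 : X) : Y) ^ t = 1 := by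
    have h2 := congrArg (fun y : f.ker => ((y : X) : Y)) (pow_orderOf_eq_one x)
    rw [hx] at h2
    simpa using h2
  have h2 : ((x.1 : X) : Y) = 1 := scalar_one h hn ht hodd htF he hc h1
  have h3 : x = 1 := Subtype.ext (Subtype.ext h2)
  rw [h3, orderOf_one] at hx
  exact ht.one_lt.ne hx

/-- **the abstract theorem** -/
theorem rowM_dt {S : Type u} [Group S] [Finite S] [IsSimpleGroup S] (hna : ∃ a b : S, a * b ≠ b * a)
    (h : Dt φ μ e) (X : Subgroup Y) [X.Normal] (D : LinDat (rep μ) e X) (hX : ∀ y, y ∈ X ↔ (μ y).det = 1)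
    (hdet : ∀ t : ℕ, t.Prime → (t : F) ≠ 0 → e t ≠ 1 → ∀ y : Y, y ^ t = 1 → y ∈ X) (f : X →* S)
    (hf : Function.Surjective f) (hker : f.ker ≤ center X)
    (hsc : ∀ x : X, f x = 1 ↔ ∃ c : F, μ (x : Y) = c • (1 : Matrix (Fin n) (Fin n) F)) (hn : 2 ≤ n) (h2 : 2 ∉ π)
    (hp : ∀ r ∈ π, r.Prime → (r : F) ≠ 0) (h27 : n = 3 → e 3 = 1 → (3 : F) ≠ 0 → ¬ HasNine φ → ¬ 27 ∣ Nat.card S)
    (hG : GammaP.{u} π) {H : Subgroup Y} (hH : IsPiHall π H) (hdom : DomX π X H) : RowM π S := by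
  have hodd : ∀ t : ℕ, t.Prime → t ∣ Nat.card H → Odd t := fun t ht hd =>
    ht.odd_of_ne_two (by rintro rfl; exact h2 (hH.1 2 ht hd))
  by_cases h1 : Nat.card H = 1
  · exact her_rowM (her_of_not_mem (r := 2) (A := ⊥) X f hf hH ⟨Nat.prime_two, bot_le, by
      intro h _
      rw [Subgroup.mem_normalizer_iff]
      intro y
      show y ∈ (⊥ : Subgroup Y) ↔ _ ∈ (⊥ : Subgroup Y)
      rw [Subgroup.mem_bot, Subgroup.mem_bot, conj_eq_one_iff], by
      intro a ha b hb
      rw [Subgroup.mem_bot] at ha hb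
      rw [ha, hb], by rw [Subgroup.card_bot]; decide, by
      intro p hp hd
      rw [Subgroup.relIndex_bot_left, h1] at hd
      exact absurd (Nat.dvd_one.mp hd) hp.one_lt.ne'⟩ (Or.inr (by rw [h1]; decide)))
  have hr := Nat.minFac_prime h1
  have hrH := Nat.minFac_dvd (Nat.card H)
  have hrπ := hH.1 _ hr hrH
  have C := Cx.of_hall D h2 hp hH hdom
  have hFd := fhd_of_cx C h1
  have hd : (Nat.card H).minFac ∣ Nat.card Y := hrH.trans (card_subgroup_dvd_card H)
  by_cases hγ : e (Nat.card H).minFac = (Nat.card H).minFac - 1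
  · exact hG F (Fin n → F) Y (rep μ) e X H S hna D h2 hp hH hdom f hf hker (fun t ht htd het =>
      ⟨not_dvd_ker h (by omega) X f hsc ht (hodd t ht htd) (hp t (hH.1 t ht htd) ht) het,
        hdet t ht (hp t (hH.1 t ht htd) ht) het⟩) hγ
  · generalize hrr : (Nat.card H).minFac = r at *
    by_cases hc : r = 3 ∧ n = 3
    · obtain ⟨rfl, rfl⟩ := hc
      by_cases h9 : HasNine φ
      · exact rowM_alpha hna h X hX f hf hker (fun x hx => (hsc x).1 hx) hn h2 hp hH hFd hrπ hd hγ (Or.inr h9)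
      · have h3F := hp 3 hrπ Nat.prime_three
        have he : e 3 = 1 := by
          have h4 := h.row.edvd 3 Nat.prime_three h3F
          have h5 := h.row.epos 3 Nat.prime_three h3F
          have h6 := Nat.le_of_dvd (by norm_num) h4
          omega
        exact rowM_three h X hX f hf hker hsc hp hH hFd hrπ he (h27 rfl he (by exact_mod_cast h3F) h9)
    · exact rowM_alpha hna h X hX f hf hker (fun x hx => (hsc x).1 hx) hn h2 hp hH hFd hrπ hd hγ (Or.inl hc)

end

/-! ### numbers -/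

theorem num_lin {q : ℕ} (hq : 1 ≤ q) (h3 : 3 ∣ q - 1) (h9 : ¬ 9 ∣ q - 1) : ¬ 81 ∣ q ^ 3 * (q ^ 2 - 1) * (q ^ 3 - 1) := by
  obtain ⟨k, hk⟩ := h3
  have hqk : q = 3 * k + 1 := by omega
  have hk3 : ¬ 3 ∣ k := by
    rintro ⟨l, rfl⟩
    exact h9 ⟨l, by omega⟩
  subst hqk
  have e1 : (3 * k + 1) ^ 2 - 1 = 3 * k * (3 * k + 2) := by
    have : (3 * k + 1) ^ 2 = 3 * k * (3 * k + 2) + 1 := by ring
    omega
  have e2 : (3 * k + 1) ^ 3 - 1 = 9 * k * (3 * (k * k) + 3 * k + 1) := by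
    have : (3 * k + 1) ^ 3 = 9 * k * (3 * (k * k) + 3 * k + 1) + 1 := by ring
    omega
  rw [e1, e2]
  have e3 : (3 * k + 1) ^ 3 * (3 * k * (3 * k + 2)) * (9 * k * (3 * (k * k) + 3 * k + 1)) =
      27 * ((3 * k + 1) ^ 3 * k * k * (3 * k + 2) * (3 * (k * k) + 3 * k + 1)) := by ring
  rw [e3, show 81 = 27 * 3 by norm_num]
  intro h
  have h4 := Nat.dvd_of_mul_dvd_mul_left (by norm_num) h
  have hP := Nat.prime_three
  rcases hP.dvd_mul.1 h4 with h4 | h4
  · rcases hP.dvd_mul.1 h4 with h4 | h4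
    · rcases hP.dvd_mul.1 h4 with h4 | h4
      · rcases hP.dvd_mul.1 h4 with h4 | h4
        · have := hP.dvd_of_dvd_pow h4
          omega
        · exact hk3 h4
      · exact hk3 h4
    · omega
  · generalize k * k = j at h4
    omega

theorem num_uni {q : ℕ} (h3 : 3 ∣ q + 1) (h9 : ¬ 9 ∣ q + 1) : ¬ 81 ∣ q ^ 3 * (q ^ 2 - 1) * (q ^ 3 + 1) := by
  obtain ⟨m, hm⟩ := h3
  obtain ⟨k, hk⟩ : ∃ k, m = k + 1 := ⟨m - 1, by omega⟩
  have hqk : q = 3 * k + 2 := by omega
  have hk3 : ¬ 3 ∣ k + 1 := by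
    rintro ⟨l, hl⟩
    exact h9 ⟨l, by omega⟩
  subst hqk
  have e1 : (3 * k + 2) ^ 2 - 1 = 3 * (k + 1) * (3 * k + 1) := by
    have : (3 * k + 2) ^ 2 = 3 * (k + 1) * (3 * k + 1) + 1 := by ring
    omega
  have e2 : (3 * k + 2) ^ 3 + 1 = 9 * (k + 1) * (3 * (k * k) + 3 * k + 1) := by ring
  rw [e1, e2]
  have e3 : (3 * k + 2) ^ 3 * (3 * (k + 1) * (3 * k + 1)) * (9 * (k + 1) * (3 * (k * k) + 3 * k + 1)) =
      27 * ((3 * k + 2) ^ 3 * (k + 1) * (k + 1) * (3 * k + 1) * (3 * (k * k) + 3 * k + 1)) := by ring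
  rw [e3, show 81 = 27 * 3 by norm_num]
  intro h
  have h4 := Nat.dvd_of_mul_dvd_mul_left (by norm_num) h
  have hP := Nat.prime_three
  rcases hP.dvd_mul.1 h4 with h4 | h4
  · rcases hP.dvd_mul.1 h4 with h4 | h4
    · rcases hP.dvd_mul.1 h4 with h4 | h4
      · rcases hP.dvd_mul.1 h4 with h4 | h4
        · have := hP.dvd_of_dvd_pow h4
          omega
        · exact hk3 h4
      · exact hk3 h4
    · omega
  · generalize k * k = j at h4
    omega

/-- an element of order nine in a finite field -/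
theorem exists_nine {F : Type*} [Field F] [Fintype F] (h : 9 ∣ Fintype.card F - 1) : ∃ l : F, l ^ 3 ≠ 1 ∧ l ^ 9 = 1 := by
  classical
  have h1 : Nat.card Fˣ = Fintype.card F - 1 := by rw [Nat.card_eq_fintype_card, Fintype.card_units]
  obtain ⟨g, hg⟩ := IsCyclic.exists_ofOrder_eq_natCard (α := Fˣ)
  obtain ⟨m, hm⟩ := h
  have hm0 : 0 < m := by
    have := Fintype.one_lt_card (α := F)
    rcases Nat.eq_zero_or_pos m with h0 | h0
    · subst h0; omega
    · exact h0
  have h2 : orderOf (g ^ m) = 9 := by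
    rw [orderOf_pow' _ hm0.ne', hg, h1, hm, Nat.gcd_mul_left_left, Nat.mul_div_cancel _ hm0]
  refine ⟨((g ^ m : Fˣ) : F), ?_, ?_⟩
  · intro h3
    have h4 : (g ^ m) ^ 3 = 1 := Units.ext (by rw [Units.val_pow_eq_pow_val, h3, Units.val_one])
    have h5 := orderOf_dvd_of_pow_eq_one h4
    rw [h2] at h5
    norm_num at h5
  · rw [← Units.val_pow_eq_pow_val, ← h2, pow_orderOf_eq_one, Units.val_one]

/-- the 3-part of the order of the quotient -/
theorem not_27 {X : Type*} {S : Type*} [Group X] [Finite X] [Group S] (f : X →* S) (hf : Function.Surjective f)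
    (h81 : ¬ 81 ∣ Nat.card X) (hk : 3 ∣ Nat.card f.ker) : ¬ 27 ∣ Nat.card S := by
  intro h
  apply h81
  rw [← f.ker.card_mul_index, f.ker.index_eq_card,
    Nat.card_congr (QuotientGroup.quotientKerEquivOfSurjective f hf).toEquiv, show 81 = 3 * 27 by norm_num]
  exact mul_dvd_mul hk h

theorem three_dvd_of {X : Type*} {S : Type*} [Group X] [Finite X] [Group S] (f : X →* S) {x : X} (h1 : x ≠ 1)
    (h3 : x ^ 3 = 1) (hx : f x = 1) : 3 ∣ Nat.card f.ker := by
  have := Fact.mk Nat.prime_three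
  have h2 : orderOf (⟨x, MonoidHom.mem_ker.2 hx⟩ : f.ker) = 3 :=
    orderOf_eq_prime (Subtype.ext h3) fun h => h1 (congrArg Subtype.val h)
  rw [← h2]
  exact orderOf_dvd_natCard _

/-- the scalar of order three -/
theorem three_dvd_scalar {F : Type} [Field F] {Y : Type} [Group Y] [Finite Y] {φ : F → F → F} {e : ℕ → ℕ}
    {μ : Y →* Matrix (Fin 3) (Fin 3) F} (h : Dt φ μ e) (X : Subgroup Y) (hX : ∀ y, y ∈ X ↔ (μ y).det = 1)
    {S : Type u} [Group S] (f : X →* S)
    (hsc : ∀ x : X, f x = 1 ↔ ∃ c : F, μ (x : Y) = c • (1 : Matrix (Fin 3) (Fin 3) F)) {ω : F} (hω : ω ^ 3 = 1)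
    (hω1 : ω ≠ 1) (hωp : ∀ a b, φ (ω * a) (ω * b) = φ a b) : 3 ∣ Nat.card f.ker := by
  have hω0 : ω ≠ 0 := by
    rintro rfl
    rw [zero_pow (by norm_num)] at hω
    exact zero_ne_one hω
  obtain ⟨y, hy⟩ := exists_diag h (d := fun _ => ω) (fun _ => hω0) (fun _ => hωp)
  have hyX : y ∈ X := by
    rw [hX, hy, det_diagonal, Finset.prod_const, Finset.card_univ, Fintype.card_fin, hω]
  refine three_dvd_of f (x := ⟨y, hyX⟩) ?_ ?_ ((hsc _).2 ⟨ω, by
    show μ y = _
    rw [hy, Matrix.smul_one_eq_diagonal]⟩)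
  · intro h1
    have h2 : y = 1 := congrArg Subtype.val h1
    rw [h2, map_one] at hy
    have h3 := congrFun (congrFun hy 0) 0
    rw [one_apply_eq, diagonal_apply_eq] at h3
    exact hω1 h3.symm
  · apply Subtype.ext
    show y ^ 3 = 1
    apply h.inj
    rw [map_pow, hy, diagonal_pow, map_one, ← diagonal_one]
    congr 1
    funext i
    exact hω

/-! ### the rows -/

section rows

variable {π : Set ℕ} {S : Type u} [Group S] [Finite S] [IsSimpleGroup S]

/-- transfer along an injection with image `δ.ker` -/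
theorem rowM_transfer' {Y A K : Type*} [Group Y] [Finite Y] [CommGroup A] [Group K] (h2 : 2 ∉ π)
    (δ : Y →* A) (j : K →* Y) (hj : Function.Injective j) (hjδ : j.range = δ.ker) (f : K →* S)
    (hf : Function.Surjective f) (hc : f.ker ≤ center K)
    (hrow : ∀ (g : δ.ker →* S), Function.Surjective g → g.ker ≤ center δ.ker → (∀ x : K, ∀ y : δ.ker,
      j x = y → g y = f x) → ∀ H : Subgroup Y, IsPiHall π H → DomX π δ.ker H → RowM π S) : RowM π S := by
  let e : K ≃* δ.ker := (MonoidHom.ofInjective hj).trans (MulEquiv.subgroupCongr hjδ)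
  have hcg : (f.comp e.symm.toMonoidHom).ker ≤ center δ.ker := by
    intro x hx
    have h1 : e.symm x ∈ center K := hc hx
    rw [mem_center_iff] at h1 ⊢
    intro y
    have h3 := h1 (e.symm y)
    rw [← map_mul, ← map_mul] at h3
    exact e.symm.injective h3
  by_cases hD : Dom π S
  · have hQ : Group.IsSolvable (Y ⧸ δ.ker) := by
      let _ : CommGroup (Y ⧸ δ.ker) := { (inferInstance : Group (Y ⧸ δ.ker)) with
        mul_comm := fun a b => QuotientGroup.kerLift_injective δ (by rw [map_mul, map_mul, mul_comm]) }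
      infer_instance
    obtain ⟨H, hH, hdom⟩ := exists_domX δ.ker hQ (dom_of_ker h2 _ (hf.comp e.symm.surjective) hcg hD)
    refine hrow _ (hf.comp e.symm.surjective) hcg (fun x y hx => ?_) H hH hdom
    have h1 : y = e x := Subtype.ext hx.symm
    show f (e.symm y) = f x
    rw [h1, e.symm_apply_apply]
  · exact her_rowM (her_of_not_dom hD)

theorem smul_one_pow {F : Type*} [Field F] {n : ℕ} {M : Matrix (Fin n) (Fin n) F} {c : F} {k : ℕ}
    (h : M = c • (1 : Matrix (Fin n) (Fin n) F)) : M ^ k = c ^ k • (1 : Matrix (Fin n) (Fin n) F) := by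
  rw [h, smul_pow, one_pow]

/-- **`PSL_n(q)`** -/
theorem rowM_psl (hna : ∃ a b : S, a * b ≠ b * a) (hG : GammaP.{u} π) {F : Type} [Field F] [Fintype F] {n : ℕ}
    (hn : 2 ≤ n) (E : S ≃* ProjectiveSpecialLinearGroup (Fin n) F) (h2 : 2 ∉ π)
    (hp : ∀ r ∈ π, r.Prime → (r : F) ≠ 0) : RowM π S := by
  refine rowM_transfer' h2 (dGL n F) (SpecialLinearGroup.toGL (n := Fin n) (R := F)) ?_ ?_
    (E.symm.toMonoidHom.comp (QuotientGroup.mk' (Subgroup.center (SpecialLinearGroup (Fin n) F)))) ?_ ?_ ?_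
  · intro a b h
    exact Subtype.ext (congrArg Units.val h)
  · ext g
    rw [MonoidHom.mem_range, MonoidHom.mem_ker, Units.ext_iff]
    constructor
    · rintro ⟨x, rfl⟩
      exact x.2
    · intro h
      exact ⟨⟨g.1, h⟩, Units.ext rfl⟩
  · exact E.symm.surjective.comp (QuotientGroup.mk'_surjective _)
  · rw [ker_comp, QuotientGroup.ker_mk']
  · intro g hg hgc hgf H hH hdom
    have hX : ∀ y : GL (Fin n) F, y ∈ (dGL n F).ker ↔ (Units.coeHom (Matrix (Fin n) (Fin n) F) y).det = 1 := by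
      intro y
      rw [MonoidHom.mem_ker, Units.ext_iff]
      rfl
    have hsc : ∀ x : (dGL n F).ker, g x = 1 ↔ ∃ c : F, Units.coeHom (Matrix (Fin n) (Fin n) F) (x : GL (Fin n) F) =
        c • (1 : Matrix (Fin n) (Fin n) F) := by
      intro x
      obtain ⟨s, hs⟩ : ∃ s : Matrix.SpecialLinearGroup (Fin n) F, (s : Matrix (Fin n) (Fin n) F) = (x : GL (Fin n) F).1 :=
        ⟨⟨_, (hX _).1 x.2⟩, rfl⟩
      have h3 := hgf s x (Units.ext hs)
      have h4 : g x = 1 ↔ s ∈ Subgroup.center (Matrix.SpecialLinearGroup (Fin n) F) := by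
        rw [h3, ← MonoidHom.mem_ker, ker_comp, QuotientGroup.ker_mk']
      rw [h4, Matrix.SpecialLinearGroup.mem_center_iff, hs]
      constructor
      · rintro ⟨c, -, hc⟩
        refine ⟨c, ?_⟩
        rw [Matrix.smul_one_eq_diagonal]
        exact hc.symm
      · rintro ⟨c, hc⟩
        refine ⟨c, ?_, ?_⟩
        · have h4 := (hX _).1 x.2
          rw [hc, det_smul, det_one, mul_one] at h4
          exact h4
        · rw [Matrix.smul_one_eq_diagonal] at hc
          exact hc.symm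
    refine rowM_dt hna (dt_GL n) (dGL n F).ker (linDat_GL n) hX ?_ g hg hgc hsc hn h2 hp ?_ hG hH hdom
    · intro t ht htF het y hy
      rw [hX]
      have h1 : (Units.coeHom (Matrix (Fin n) (Fin n) F) y).det ^ t = 1 := by
        rw [← Matrix.det_pow, ← map_pow, hy, map_one, Matrix.det_one]
      have h0 : (Units.coeHom (Matrix (Fin n) (Fin n) F) y).det ≠ 0 := by
        intro h2
        rw [h2, zero_pow ht.ne_zero] at h1
        exact zero_ne_one h1
      refine eq_one_of_pow ht h1 (FiniteField.pow_card_sub_one_eq_one _ h0) fun h2 => het ?_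
      rw [← pow_one (Fintype.card F), HallOrd.dvd_iff_plus Fintype.card_pos, pow_one] at h2
      rw [h2, orderOf_one]
    · intro hn3 he h3F h9
      subst hn3
      have hq1 : 1 ≤ Fintype.card F := Fintype.card_pos
      have h3 : 3 ∣ Fintype.card F - 1 := by
        have h4 : ((Fintype.card F : ZMod 3)) ^ 1 = 1 := by
          rw [← he, pow_orderOf_eq_one]
        have h5 := (HallOrd.dvd_iff_plus hq1).2 h4
        rwa [pow_one] at h5
      have h99 : ¬ 9 ∣ Fintype.card F - 1 := by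
        intro h
        obtain ⟨l, hl, hl'⟩ := exists_nine h
        exact h9 ⟨l, hl, hl', fun _ _ => rfl⟩
      have hcard : Nat.card (dGL 3 F).ker = Fintype.card F ^ 3 * (Fintype.card F ^ 2 - 1) * (Fintype.card F ^ 3 - 1) := by
        rw [← Cfsg.Agent.H960.card_SL3 rfl Fintype.one_lt_card]
        rfl
      refine not_27 g hg (by rw [hcard]; exact num_lin hq1 h3 h99) ?_
      obtain ⟨ω, hω, hω1, hωp⟩ := exists_omega (dt_GL (F := F) 3) Nat.prime_three (by decide) (by exact_mod_cast h3F) he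
      exact three_dvd_scalar (dt_GL (F := F) 3) (dGL 3 F).ker hX g hsc hω hω1 hωp

open Cfsg.Agent.ClassicalGeometry.PSUAutBasic in
open Cfsg.Agent.LieClassical.SUBasic Cfsg.Agent.LieClassical.HermSiegel Cfsg.Agent.LieClassical.HermBasic in
/-- **`PSU_n(q)`** -/
theorem rowM_psu (hna : ∃ a b : S, a * b ≠ b * a) (hG : GammaP.{u} π) {F : Type} [Field F] [Fintype F] {n q : ℕ}
    (hF : Fintype.card F = q ^ 2) (hn : 3 ≤ n) (E : S ≃* PSU n F q) (h2 : 2 ∉ π)
    (hp : ∀ r ∈ π, r.Prime → (r : F) ≠ 0) : RowM π S := by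
  refine rowM_transfer' h2 (dGU n F q) (jU n F q) ?_ ?_
    (E.symm.toMonoidHom.comp (QuotientGroup.mk' (Subgroup.center (SU n F q)))) ?_ ?_ ?_
  · intro a b h
    exact Subtype.ext (Subtype.ext (congrArg (fun x : GU n F q => x.1.1) h))
  · ext g
    rw [MonoidHom.mem_range, MonoidHom.mem_ker, Units.ext_iff]
    constructor
    · rintro ⟨x, rfl⟩
      exact x.1.2
    · intro h
      exact ⟨⟨⟨g.1.1, h⟩, fun u v => g.2 u v⟩, Subtype.ext (Units.ext rfl)⟩
  · exact E.symm.surjective.comp (QuotientGroup.mk'_surjective _)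
  · rw [ker_comp, QuotientGroup.ker_mk']
  · intro g hg hgc hgf H hH hdom
    have hX : ∀ y : GU n F q, y ∈ (dGU n F q).ker ↔ (incU n F q y).det = 1 := by
      intro y
      rw [MonoidHom.mem_ker, Units.ext_iff]
      rfl
    have hsc : ∀ x : (dGU n F q).ker, g x = 1 ↔ ∃ c : F, incU n F q (x : GU n F q) =
        c • (1 : Matrix (Fin n) (Fin n) F) := by
      intro x
      obtain ⟨s, hs⟩ : ∃ s : SU n F q, s.1.1 = (x : GU n F q).1.1 :=
        ⟨⟨⟨_, (hX _).1 x.2⟩, fun u v => (x : GU n F q).2 u v⟩, rfl⟩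
      have h3 := hgf s x (Subtype.ext (Units.ext hs))
      have h4 : g x = 1 ↔ s ∈ Subgroup.center (SU n F q) := by
        rw [h3, ← MonoidHom.mem_ker, ker_comp, QuotientGroup.ker_mk']
      rw [h4]
      constructor
      · intro h5
        obtain ⟨c, -, -, hc⟩ := exists_scalar_of_mem_center hF hn h5
        refine ⟨c, ?_⟩
        show (x : GU n F q).1.1 = _
        rw [← hs]
        ext i j
        have h6 := congrFun (hc (Pi.single j 1)) i
        rw [act_def] at h6
        have h7 : (s.1.1 *ᵥ Pi.single j 1) i = s.1.1 i j := by rw [mulVec_single_one]; rfl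
        rw [Matrix.smul_apply, Matrix.one_apply, smul_eq_mul]
        rw [Pi.smul_apply, smul_eq_mul, Pi.single_apply] at h6
        rw [← h7]
        exact h6
      · rintro ⟨c, hc⟩
        refine mem_center_of_act (c := c) fun v => ?_
        rw [act_def]
        have h5 : s.1.1 = c • (1 : Matrix (Fin n) (Fin n) F) := hs.trans hc
        show s.1.1 *ᵥ v = c • v
        rw [h5, smul_mulVec, one_mulVec]
    have hdq : ∀ y : GU n F q, (incU n F q y).det ^ (q + 1) = 1 := fun y =>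
      Cfsg.Agent.LieClassical.GUOrder.det_mul_frob_det hF (incU n F q y) ((dt_GU hF n).pres y)
    refine rowM_dt hna (dt_GU hF n) (dGU n F q).ker (linDat_GU hF n) hX ?_ g hg hgc hsc (by omega) h2 hp ?_ hG hH hdom
    · intro t ht htF het y hy
      rw [hX]
      have h1 : (incU n F q y).det ^ t = 1 := by
        rw [← Matrix.det_pow, ← map_pow, hy, map_one, Matrix.det_one]
      refine eq_one_of_pow ht h1 (hdq y) fun h3 => het ?_
      have h4 := HallOrd.dvd_iff_minus (t := t) (j := 1) (q_pos hF)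
      rw [if_neg (by decide), pow_one, pow_one] at h4
      rw [h4.1 h3, orderOf_one]
    · intro hn3 he h3F h9
      subst hn3
      have h3 : 3 ∣ q + 1 := by
        have h4 : (-(q : ZMod 3)) ^ 1 = 1 := by
          rw [← he, pow_orderOf_eq_one]
        have h5 := (HallOrd.dvd_iff_minus (q_pos hF)).2 h4
        rwa [if_neg (by decide), pow_one] at h5
      have h99 : ¬ 9 ∣ q + 1 := by
        intro h
        obtain ⟨l, hl, hl'⟩ := exists_nine (F := F) (by
          rw [hF]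
          have h5 : q ^ 2 - 1 = (q + 1) * (q - 1) := by
            have := Nat.sq_sub_sq q 1
            simpa using this
          rw [h5]
          exact h.mul_right _)
        refine h9 ⟨l, hl, hl', fun a b => ?_⟩
        obtain ⟨m, hm⟩ := h
        have h6 : l ^ (q + 1) = 1 := by rw [hm, pow_mul, hl', one_pow]
        show l * a * (l * b) ^ q = a * b ^ q
        calc l * a * (l * b) ^ q = l ^ (q + 1) * (a * b ^ q) := by rw [mul_pow, pow_succ]; ring
          _ = a * b ^ q := by rw [h6, one_mul]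
      have hcard : Nat.card (dGU 3 F q).ker = q ^ 3 * (q ^ 2 - 1) * (q ^ 3 + 1) := by
        rw [← Cfsg.Agent.H960.card_SU3 hF]
        refine Nat.card_congr
          { toFun := fun x => ⟨x.1.1, ⟨x.1.2, ?_⟩⟩
            invFun := fun x => ⟨⟨x.1, x.2.1⟩, ?_⟩
            left_inv := fun _ => rfl
            right_inv := fun _ => rfl }
        · exact x.2
        · exact x.2.2
      refine not_27 g hg (by rw [hcard]; exact num_uni h3 h99) ?_
      obtain ⟨ω, hω, hω1, hωp⟩ := exists_omega (dt_GU hF 3) Nat.prime_three (by decide) (by exact_mod_cast h3F) he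
      exact three_dvd_scalar (dt_GU hF 3) (dGU 3 F q).ker hX g hsc hω hω1 hωp

/-- **`PSL_n(q)`, `2, p ∉ π`** -/
theorem rowM_pslChar_of (hG : GammaP.{u} π) (hna : ∃ a b : S, a * b ≠ b * a) {p : ℕ} (h : IsPSLChar p S)
    (h2 : 2 ∉ π) (hp : p ∉ π) : RowM π S := by
  obtain ⟨F, _, _, _, n, hn, -, ⟨e⟩⟩ := h
  exact rowM_psl hna hG hn e h2 (char_ne (p := p) hp)

/-- **`PSU_n(q)`, `2, p ∉ π`** -/
theorem rowM_psuChar_of (hG : GammaP.{u} π) (hna : ∃ a b : S, a * b ≠ b * a) {p : ℕ} (h : IsPSUChar p S)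
    (h2 : 2 ∉ π) (hp : p ∉ π) : RowM π S := by
  obtain ⟨F, _, _, _, n, q, hF, hn, -, ⟨e⟩⟩ := h
  exact rowM_psu hna hG hF hn e h2 (char_ne (p := p) hp)

end rows

end Cfsg.Agent.H490.RM
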