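import Cfsg.Agent.H490.RM.Alpha
import Cfsg.Agent.H553.RV.LinB

/-!
# S3849, P3: `SL_3(q)`, `SU_3(q)`, `r = 3`, `9 ∤ q - ε` (helper490)
-/

set_option autoImplicit false
set_option linter.unusedSectionVars false

namespace Cfsg.Agent.H490.RM

open Subgroup Module Matrix Cfsg Cfsg.Agent.H988.CPi Cfsg.Agent.H571.DExt Cfsg.Agent.H571.RV Cfsg.Agent.H571.RM
open Cfsg.Agent.H167.OP Cfsg.Agent.H170.HL Cfsg.Agent.H380.RV Cfsg.Agent.H553.RV Cfsg.Agent.H750.RM

universe u

/-- elements commuting modulo the kernel -/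
theorem comm_of_image {X : Type*} {S : Type u} [Group X] [Group S] (f : X →* S) (hker : f.ker ≤ center X)
    (h3 : ∀ k : X, f k = 1 → k ^ 3 = 1) {y w : X} {m : ℕ} (hm : ¬ 3 ∣ m) (hy : f y ^ m = 1)
    (hc : f y * f w = f w * f y) : y * w = w * y := by
  set k := y * w * y⁻¹ * w⁻¹ with hk
  have hk1 : f k = 1 := by
    rw [hk, map_mul, map_mul, map_mul, map_inv, map_inv, hc]
    group
  have hkc : ∀ x : X, x * k = k * x := fun x => mem_center_iff.1 (hker (MonoidHom.mem_ker.2 hk1)) x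
  have h1 : y * w * y⁻¹ = k * w := by rw [hk]; group
  have h2 : ∀ j : ℕ, y ^ j * w * (y ^ j)⁻¹ = k ^ j * w := by
    intro j
    induction j with
    | zero => simp
    | succ j ih =>
      have e1 : y ^ (j + 1) * w * (y ^ (j + 1))⁻¹ = y * (y ^ j * w * (y ^ j)⁻¹) * y⁻¹ := by
        rw [pow_succ', _root_.mul_inv_rev]; group
      have e2 : y * k ^ j = k ^ j * y := ((show Commute y k from hkc y).pow_right j).eq
      calc y ^ (j + 1) * w * (y ^ (j + 1))⁻¹ = y * (k ^ j * w) * y⁻¹ := by rw [e1, ih]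
        _ = y * k ^ j * w * y⁻¹ := by group
        _ = k ^ j * (y * w * y⁻¹) := by rw [e2]; group
        _ = k ^ j * (k * w) := by rw [h1]
        _ = k ^ (j + 1) * w := by rw [pow_succ]; group
  have h4 : k ^ m = 1 := by
    have h5 : y ^ m ∈ center X := hker (MonoidHom.mem_ker.2 (by rw [map_pow, hy]))
    have h6 : w * y ^ m = y ^ m * w := mem_center_iff.1 h5 w
    have h7 := h2 m
    rw [← h6, mul_inv_cancel_right] at h7
    exact (mul_eq_right.1 h7.symm)
  have h5 : k = 1 := by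
    have h6 := orderOf_dvd_of_pow_eq_one h4
    have h7 := orderOf_dvd_of_pow_eq_one (h3 k hk1)
    rcases (Nat.dvd_prime Nat.prime_three).1 h7 with h8 | h8
    · exact orderOf_eq_one_iff.1 h8
    · rw [h8] at h6
      exact absurd h6 hm
  rw [h5, one_mul, mul_inv_eq_iff_eq_mul] at h1
  exact h1

variable {π : Set ℕ} {F : Type*} [Field F] {n : ℕ} {Y : Type*} [Group Y] [Finite Y] {φ : F → F → F}
  {e : ℕ → ℕ}

/-- elements of `H` without cosets of eigenvalues centralise `A` -/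
theorem comm_Y {μ : Y →* Matrix (Fin n) (Fin n) F} (h : Dt φ μ e) (hp : ∀ r ∈ π, r.Prime → (r : F) ≠ 0)
    {r : ℕ} {H A : Subgroup Y} (hH : IsPiHall π H) (hFd : FHd r H A) (hrπ : r ∈ π) {y : Y} {k : ℕ} (hy : y ^ r ^ k = 1)
    (hco : NoCoset (AlgebraicClosure F) r (rep μ y).charpoly) (hyH : y ∈ H) : ∀ a ∈ A, y * a = a * y := by
  intro a ha
  have h1 := eig_end (L := AlgebraicClosure F) (rep μ) (A := A) (r := r) (z := y) (m := k) hFd.ab ?_ hFd.hr
    (hp r hrπ hFd.hr) (fun b hb => (Subgroup.mem_normalizer_iff.1 (hFd.nor hyH) b).1 hb) ?_ hco a ha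
  · rw [← map_mul, ← map_mul] at h1
    exact rep_injective h.inj h1
  · exact card_ne_zero_of_piN hp Nat.card_pos.ne' (PiN.of_dvd hH.1 (card_dvd_of_le hFd.ale))
  · intro b _
    rw [hy, map_one, one_mul, mul_one]

theorem charpoly_conj {μ : Y →* Matrix (Fin n) (Fin n) F} (g z : Y) :
    (rep μ (g * z * g⁻¹)).charpoly = (rep μ z).charpoly := by
  rw [rep_charpoly, rep_charpoly, map_mul, map_mul]
  have h4 := Matrix.charpoly_units_conj (Units.map μ (toUnits g)) (μ z)
  rw [← Matrix.coe_units_inv] at h4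
  exact h4

theorem scalar_of_comm {ω : F} (hω : ω ^ 3 = 1) (hω1 : ω ≠ 1) {M : Matrix (Fin 3) (Fin 3) F}
    (h1 : M * diagonal (fun i : Fin 3 => ω ^ (i : ℕ)) = diagonal (fun i : Fin 3 => ω ^ (i : ℕ)) * M)
    (h2 : M * (finRotate 3).permMatrix F = (finRotate 3).permMatrix F * M) : ∃ c : F, M = c • (1 : Matrix (Fin 3) (Fin 3) F) := by
  have hprim : IsPrimitiveRoot ω 3 := by
    have := Fact.mk Nat.prime_three
    rw [← orderOf_eq_prime hω hω1]
    exact IsPrimitiveRoot.orderOf ω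
  have hoff : ∀ i j : Fin 3, i ≠ j → M i j = 0 := by
    intro i j hij
    have h3 := congrFun (congrFun h1 i) j
    rw [mul_diagonal, diagonal_mul] at h3
    have h4 : M i j * (ω ^ (j : ℕ) - ω ^ (i : ℕ)) = 0 := by rw [mul_sub, h3]; ring
    rcases mul_eq_zero.1 h4 with h5 | h5
    · exact h5
    · exact absurd (Fin.ext (hprim.pow_inj i.2 j.2 (sub_eq_zero.1 h5).symm)) hij
  have hM : M = diagonal fun i => M i i := by
    ext i j
    by_cases hij : i = j
    · rw [hij, diagonal_apply_eq]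
    · rw [hoff i j hij, diagonal_apply_ne _ hij]
  have h3 : ∀ x : Fin 3, M x x = M (finRotate 3 x) (finRotate 3 x) := by
    intro x
    have h4 := congrArg (fun N : Matrix (Fin 3) (Fin 3) F => (N *ᵥ (fun _ => (1 : F))) x) h2
    simp only [← mulVec_mulVec] at h4
    rw [perm_mulVec] at h4
    rw [hM] at h4
    rw [mulVec_diagonal, mulVec_diagonal, perm_mulVec, mul_one, mul_one] at h4
    exact h4
  refine ⟨M 0 0, ?_⟩
  have h5 : M 0 0 = M 1 1 := h3 0
  have h6 : M 1 1 = M 2 2 := h3 1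
  ext i j
  rw [Matrix.smul_apply, smul_eq_mul]
  by_cases hij : i = j
  · subst hij
    rw [Matrix.one_apply_eq, mul_one]
    fin_cases i
    · rfl
    · exact h5.symm
    · exact (h5.trans h6).symm
  · rw [hoff i j hij, Matrix.one_apply_ne hij, mul_zero]

/-- **the case `n = r = 3`** -/
theorem rowM_three {S : Type u} [Group S] [Finite S] {μ : Y →* Matrix (Fin 3) (Fin 3) F}
    (h : Dt φ μ e) (X : Subgroup Y) [X.Normal] (hX : ∀ y, y ∈ X ↔ (μ y).det = 1) (f : X →* S)
    (hf : Function.Surjective f) (hker : f.ker ≤ center X)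
    (hsc : ∀ x : X, f x = 1 ↔ ∃ c : F, μ (x : Y) = c • (1 : Matrix (Fin 3) (Fin 3) F))
    (hp : ∀ r ∈ π, r.Prime → (r : F) ≠ 0) {H A : Subgroup Y} (hH : IsPiHall π H) (hFd : FHd 3 H A)
    (h3 : 3 ∈ π) (he : e 3 = 1) (h27 : ¬ 27 ∣ Nat.card S) : RowM π S := by
  have hf3 : Fact (Nat.Prime 3) := ⟨Nat.prime_three⟩
  have h3F := hp 3 h3 Nat.prime_three
  obtain ⟨ω, hω, hω1, hωp⟩ := exists_omega h Nat.prime_three (by decide) h3F he
  have h0 : ω ≠ 0 := by
    rintro rfl
    rw [zero_pow (by norm_num)] at hω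
    exact zero_ne_one hω
  have hωpow : ∀ k : ℕ, ∀ a b, φ (ω ^ k * a) (ω ^ k * b) = φ a b := by
    intro k
    induction k with
    | zero => intro a b; rw [pow_zero, one_mul, one_mul]
    | succ k ih => intro a b; rw [pow_succ', mul_assoc, mul_assoc, hωp, ih]
  have hdet1 : ∀ k : X, f k = 1 → k ^ 3 = 1 := by
    intro k hk
    obtain ⟨c, hc⟩ := (hsc k).1 hk
    have h1 := (hX k).1 k.2
    rw [hc, det_smul, det_one, mul_one, Fintype.card_fin] at h1
    apply Subtype.ext
    apply h.inj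
    show μ ((k : Y) ^ 3) = μ 1
    rw [map_pow, hc, smul_pow, one_pow, h1, one_smul, map_one]
  -- diagonal elements
  have hdg : ∀ a b c : ℕ, ∃ z : Y, μ z = diagonal ![ω ^ a, ω ^ b, ω ^ c] := by
    intro a b c
    refine exists_diag h (fun i => ?_) (fun i => ?_)
    · fin_cases i <;> exact pow_ne_zero _ h0
    · fin_cases i <;> exact hωpow _
  have hdg3 : ∀ {a b c : ℕ} {z : Y}, μ z = diagonal ![ω ^ a, ω ^ b, ω ^ c] → z ^ 3 = 1 := by
    intro a b c z hz
    apply h.inj
    rw [map_pow, hz, diagonal_pow, map_one, ← diagonal_one]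
    congr 1
    funext i
    fin_cases i <;> (show (ω ^ _) ^ 3 = 1; rw [← pow_mul, mul_comm, pow_mul, hω, one_pow])
  obtain ⟨z1, hz1⟩ := hdg 0 1 0
  obtain ⟨z2, hz2⟩ := hdg 0 0 2
  obtain ⟨D, hD⟩ := hdg 0 1 2
  obtain ⟨B, hB⟩ := h.sur ((finRotate 3).permMatrix F) (perm_unit _) (perm_pres _)
  have hD' : μ D = diagonal (fun i : Fin 3 => ω ^ (i : ℕ)) := by
    rw [hD]
    congr 1
    funext i
    fin_cases i <;> rfl
  have hDX : D ∈ X := (hX D).2 (by
    rw [hD, det_diagonal, Fin.prod_univ_three]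
    show ω ^ 0 * ω ^ 1 * ω ^ 2 = 1
    rw [← pow_add, ← pow_add]
    exact hω)
  have hBX : B ∈ X := (hX B).2 (by
    rw [hB, Matrix.det_permutation, sign_finRotate]
    norm_num)
  have hB3 : B ^ 3 = 1 := by
    apply h.inj
    rw [map_pow, hB, map_one]
    refine ext_mulVec fun v => ?_
    funext x
    rw [pow_succ, pow_two, ← mulVec_mulVec, ← mulVec_mulVec, perm_mulVec, perm_mulVec, perm_mulVec, one_mulVec]
    fin_cases x <;> rfl
  -- the commutator of `D` and `B`
  have hBD : μ (B * D) = ω • μ (D * B) := by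
    rw [map_mul, map_mul, hB, hD']
    refine ext_mulVec fun v => ?_
    funext x
    rw [smul_mulVec, Pi.smul_apply, ← mulVec_mulVec, ← mulVec_mulVec, perm_mulVec, mulVec_diagonal, mulVec_diagonal,
      perm_mulVec, smul_eq_mul, ← mul_assoc]
    congr 1
    fin_cases x
    · show ω ^ 1 = ω * ω ^ 0
      ring
    · show ω ^ 2 = ω * ω ^ 1
      ring
    · show ω ^ 0 = ω * ω ^ 2
      rw [← pow_succ', hω, pow_zero]
  set D' : X := ⟨D, hDX⟩ with hD'def
  set B' : X := ⟨B, hBX⟩ with hB'def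
  have hfDB : f D' * f B' = f B' * f D' := by
    have h1 : f (B' * D' * (D' * B')⁻¹) = 1 := by
      rw [hsc]
      refine ⟨ω, ?_⟩
      show μ (B * D * (D * B)⁻¹) = _
      rw [map_mul, hBD, smul_mul_assoc, ← map_mul, mul_inv_cancel, map_one]
    rw [map_mul, map_inv, mul_inv_eq_one, map_mul, map_mul] at h1
    exact h1.symm
  have d := ha_of_FH X f hf hH hFd
  refine rowM_of_fd d fun _ Q hQA hQ hdvd => ?_
  -- an element of `H ∩ X` centralising `A`
  have hidx : ¬ 3 ∣ H.index := hH.2 3 Nat.prime_three h3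
  have hz12 : z1 * z2 = z2 * z1 := by
    apply h.inj
    rw [map_mul, map_mul, hz1, hz2, diagonal_mul_diagonal, diagonal_mul_diagonal]
    congr 1
    funext i
    exact mul_comm _ _
  have hS : ∀ x ∈ ({z1, z2} : Set Y), ∀ y ∈ ({z1, z2} : Set Y), x * y = y * x := by
    intro x hx y hy
    simp only [Set.mem_insert_iff, Set.mem_singleton_iff] at hx hy
    rcases hx with rfl | rfl <;> rcases hy with rfl | rfl
    · rfl
    · exact hz12
    · exact hz12.symm
    · rfl
  have hSp : ∀ x ∈ ({z1, z2} : Set Y), x ^ 3 = 1 := by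
    intro x hx
    simp only [Set.mem_insert_iff, Set.mem_singleton_iff] at hx
    rcases hx with rfl | rfl
    · exact hdg3 hz1
    · exact hdg3 hz2
  have hPg : IsPGroup 3 (closure ({z1, z2} : Set Y)) := fun x =>
    ⟨1, Subtype.ext (by rw [pow_one]; exact pow_closure hS hSp x x.2)⟩
  obtain ⟨g, hg⟩ := conj_into Nat.prime_three hPg hidx
  have hy1H := hg z1 (subset_closure (by simp))
  have hy2H := hg z2 (subset_closure (by simp))
  have hy1A : ∀ a ∈ A, g * z1 * g⁻¹ * a = a * (g * z1 * g⁻¹) := by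
    refine comm_Y h hp hH hFd h3 (k := 1) (by rw [pow_one, conj_pow, hdg3 hz1, mul_one, mul_inv_cancel]) ?_ hy1H
    rw [charpoly_conj]
    classical
    refine noCoset_diag Nat.prime_three h3F hz1 {1, ω} (fun i => ?_) ?_
    · fin_cases i <;> simp
    · have := Finset.card_le_two (a := (1 : F)) (b := ω)
      omega
  have hy2A : ∀ a ∈ A, g * z2 * g⁻¹ * a = a * (g * z2 * g⁻¹) := by
    refine comm_Y h hp hH hFd h3 (k := 1) (by rw [pow_one, conj_pow, hdg3 hz2, mul_one, mul_inv_cancel]) ?_ hy2H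
    rw [charpoly_conj]
    classical
    refine noCoset_diag Nat.prime_three h3F hz2 {1, ω ^ 2} (fun i => ?_) ?_
    · fin_cases i <;> simp
    · have := Finset.card_le_two (a := (1 : F)) (b := ω ^ 2)
      omega
  have hz12D : z1 * z2 = D := by
    apply h.inj
    rw [map_mul, hz1, hz2, hD, diagonal_mul_diagonal]
    congr 1
    funext i
    fin_cases i
    · show ω ^ 0 * ω ^ 0 = ω ^ 0
      rw [pow_zero, one_mul]
    · show ω ^ 1 * ω ^ 0 = ω ^ 1
      rw [pow_zero, mul_one]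
    · show ω ^ 0 * ω ^ 2 = ω ^ 2
      rw [pow_zero, one_mul]
  have hgD : g * D * g⁻¹ = (g * z1 * g⁻¹) * (g * z2 * g⁻¹) := by rw [← hz12D]; group
  have hgDX : g * D * g⁻¹ ∈ X := ‹X.Normal›.conj_mem D hDX g
  have hgDH : g * D * g⁻¹ ∈ H := by rw [hgD]; exact H.mul_mem hy1H hy2H
  have hgDA : ∀ a ∈ A, g * D * g⁻¹ * a = a * (g * D * g⁻¹) := by
    intro a ha
    rw [hgD, mul_assoc, hy2A a ha, ← mul_assoc, hy1A a ha, mul_assoc]
  have hnsc : ∀ c : F, μ D ≠ c • (1 : Matrix (Fin 3) (Fin 3) F) := by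
    intro c hc
    rw [hD'] at hc
    have h1 := congrFun (congrFun hc 0) 0
    have h2 := congrFun (congrFun hc 1) 1
    rw [diagonal_apply_eq, Matrix.smul_apply, Matrix.one_apply_eq, smul_eq_mul, mul_one] at h1 h2
    apply hω1
    have h5 : ω ^ 1 = ω ^ 0 := h2.trans h1.symm
    rwa [pow_one, pow_zero] at h5
  set δ : X := ⟨g * D * g⁻¹, hgDX⟩ with hδ
  have hδ1 : f δ ≠ 1 := by
    rw [Ne, hsc]
    rintro ⟨c, hc⟩
    apply hnsc c
    have h1 : D = g⁻¹ * (g * D * g⁻¹) * g := by group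
    have hc' : μ (g * D * g⁻¹) = c • 1 := hc
    rw [h1, map_mul, map_mul, hc', mul_smul_comm, mul_one, smul_mul_assoc, ← map_mul, inv_mul_cancel, map_one]
  have hδ3 : f δ ^ 3 = 1 := by
    rw [← map_pow]
    have h1 : δ ^ 3 = 1 := Subtype.ext (by
      show (g * D * g⁻¹) ^ 3 = 1
      rw [conj_pow, hdg3 hD, mul_one, mul_inv_cancel])
    rw [h1, map_one]
  set C := centralizer (Q : Set S) with hC
  have hδC : f δ ∈ C := by
    rw [hC, mem_centralizer_iff]
    intro q hq
    obtain ⟨a, ha, rfl⟩ := hQA hq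
    rw [← map_mul, ← map_mul]
    exact congrArg f (Subtype.ext (hgDA a ha).symm)
  have hδH : f δ ∈ (H.subgroupOf X).map f := ⟨δ, hgDH, rfl⟩
  -- `9` divides `|C|`
  have h9 : 3 ^ 2 ∣ Nat.card C := by
    have h1 : 3 ∣ Nat.card (((H.subgroupOf X).map f).subgroupOf C) := by
      have h2 : orderOf (⟨⟨f δ, hδC⟩, mem_subgroupOf.2 hδH⟩ : ((H.subgroupOf X).map f).subgroupOf C) = 3 := by
        refine orderOf_eq_prime (Subtype.ext (Subtype.ext hδ3)) fun h4 => hδ1 ?_
        exact congrArg (fun x : ((H.subgroupOf X).map f).subgroupOf C => ((x : C) : S)) h4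
      rw [← h2]
      exact orderOf_dvd_natCard _
    rw [pow_two, ← (((H.subgroupOf X).map f).subgroupOf C).card_mul_index]
    exact mul_dvd_mul h1 hdvd
  obtain ⟨K, hK⟩ := Sylow.exists_subgroup_card_pow_prime 3 h9
  have hP9 : Nat.card (K.map C.subtype) = 9 := by
    rw [card_map_of_injective C.subtype_injective, hK]; norm_num
  have hPi : ¬ 3 ∣ (K.map C.subtype).index := by
    intro h4
    apply h27
    rw [← (K.map C.subtype).card_mul_index, hP9]
    exact mul_dvd_mul_left 9 h4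
  -- the Sylow subgroup generated by the images of `D` and `B`
  have hS' : ∀ x ∈ ({f D', f B'} : Set S), ∀ y ∈ ({f D', f B'} : Set S), x * y = y * x := by
    intro x hx y hy
    simp only [Set.mem_insert_iff, Set.mem_singleton_iff] at hx hy
    rcases hx with rfl | rfl <;> rcases hy with rfl | rfl
    · rfl
    · exact hfDB
    · exact hfDB.symm
    · rfl
  have hS'p : ∀ x ∈ ({f D', f B'} : Set S), x ^ 3 = 1 := by
    intro x hx
    simp only [Set.mem_insert_iff, Set.mem_singleton_iff] at hx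
    rcases hx with rfl | rfl
    · rw [← map_pow, show D' ^ 3 = 1 from Subtype.ext (hdg3 hD), map_one]
    · rw [← map_pow, show B' ^ 3 = 1 from Subtype.ext hB3, map_one]
  have hRg : IsPGroup 3 (closure ({f D', f B'} : Set S)) := fun x =>
    ⟨1, Subtype.ext (by rw [pow_one]; exact pow_closure hS' hS'p x x.2)⟩
  obtain ⟨s, hs⟩ := conj_into Nat.prime_three hRg hPi
  have hsC : ∀ w ∈ closure ({f D', f B'} : Set S), s * w * s⁻¹ ∈ C := by
    intro w hw
    obtain ⟨k, -, hk⟩ := hs w hw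
    rw [← hk]
    exact k.2
  -- a nontrivial element of `Q`
  obtain ⟨x, hxQ, hx1⟩ := (Subgroup.ne_bot_iff_exists_ne_one.1 hQ : ∃ a : Q, a ≠ 1) |>.elim fun a ha =>
    (⟨a.1, a.2, fun h => ha (Subtype.ext h)⟩ : ∃ x ∈ Q, x ≠ 1)
  set m := Nat.card ((A.subgroupOf X).map f) with hm
  have hxm : x ^ m = 1 := by
    have h1 : (⟨x, hQA hxQ⟩ : (A.subgroupOf X).map f) ^ m = 1 := pow_card_eq_one'
    exact congrArg Subtype.val h1
  obtain ⟨y, hy⟩ := hf (s⁻¹ * x * s)
  have hym : f y ^ m = 1 := by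
    rw [hy]
    have h1 : s⁻¹ * x * s = s⁻¹ * x * s⁻¹⁻¹ := by group
    rw [h1, conj_pow, hxm, mul_one, mul_inv_cancel]
  have hyw : ∀ w : X, f w ∈ closure ({f D', f B'} : Set S) → y * w = w * y := by
    intro w hw
    refine comm_of_image f hker hdet1 d.rA hym ?_
    rw [hy]
    have h1 : x * (s * f w * s⁻¹) = (s * f w * s⁻¹) * x := mem_centralizer_iff.1 (hsC _ hw) x hxQ
    calc s⁻¹ * x * s * f w = s⁻¹ * (x * (s * f w * s⁻¹)) * s := by group
      _ = s⁻¹ * ((s * f w * s⁻¹) * x) * s := by rw [h1]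
      _ = f w * (s⁻¹ * x * s) := by group
  have e1 := hyw D' (subset_closure (by simp))
  have e2 := hyw B' (subset_closure (by simp))
  obtain ⟨c, hc⟩ := scalar_of_comm hω hω1 (M := μ (y : Y)) (by
    rw [← hD', ← map_mul, ← map_mul]
    exact congrArg (fun t : X => μ (t : Y)) e1) (by
    rw [← hB, ← map_mul, ← map_mul]
    exact congrArg (fun t : X => μ (t : Y)) e2)
  apply hx1
  have h4 := (hsc y).2 ⟨c, hc⟩
  rw [hy] at h4
  calc x = s * (s⁻¹ * x * s) * s⁻¹ := by group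
    _ = 1 := by rw [h4]; group

end Cfsg.Agent.H490.RM
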