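import Cfsg.Agent.H571.RM.RowC
import Cfsg.Agent.H380.RV.Tr

/-!
# S3849, P3: transfer from `GL_n(q)`, `GU_n(q)` to the simple groups (helper490)

* `ha_of_FH` : the data `HA` for `S` from the data for a Hall subgroup of `Y`;
* `rowM_cover` : the criterion of a single element `z`;
* `rowM_transfer`, `rowM_transfer'` : `RowM π S` from a statement on the Hall subgroups of `Y`.
-/

set_option autoImplicit false
set_option linter.style.haveILetI false

namespace Cfsg.Agent.H490.RM

open Subgroup Cfsg Cfsg.Agent.H988.CPi Cfsg.Agent.H571.DExt Cfsg.Agent.H571.RV Cfsg.Agent.H571.RM Cfsg.Agent.H808.RV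
open Cfsg.Agent.H380.RV
open scoped Pointwise

universe u

variable {π : Set ℕ}

/-- the data of `FH` with `r`, `A` -/
structure FHd {Y : Type*} [Group Y] (r : ℕ) (H A : Subgroup Y) : Prop where
  hr : r.Prime
  ale : A ≤ H
  nor : H ≤ normalizer (A : Set Y)
  ab : ∀ a ∈ A, ∀ b ∈ A, a * b = b * a
  rA : ¬ r ∣ Nat.card A
  idx : ∀ p : ℕ, p.Prime → p ∣ A.relIndex H → p = r

theorem FH.exists {Y : Type*} [Group Y] {H : Subgroup Y} (h : FH H) : ∃ r A, FHd r H A := by
  obtain ⟨r, hr, A, h1, h2, h3, h4, h5⟩ := h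
  exact ⟨r, A, hr, h1, h2, h3, h4, h5⟩

/-- **the data `HA` for the quotient** -/
theorem ha_of_FH {Y : Type*} {S : Type u} [Group Y] [Finite Y] [Group S] [Finite S] (X : Subgroup Y) [X.Normal]
    (f : X →* S) (hf : Function.Surjective f) {r : ℕ} {H A : Subgroup Y} (hH : IsPiHall π H) (h : FHd r H A) :
    HA π r ((H.subgroupOf X).map f) ((A.subgroupOf X).map f) := by
  obtain ⟨hr, hAH, hn, hab, hrA, hidx⟩ := h
  have hHX : IsPiHall π (H.subgroupOf X) := isPiHall_subgroupOf hH X
  have hAH' : A.subgroupOf X ≤ H.subgroupOf X := Subgroup.comap_mono hAH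
  refine ⟨hr, ⟨?_, ?_⟩, Subgroup.map_mono hAH', ?_, ?_, ?_, ?_⟩
  · exact PiN.of_dvd hHX.1 (card_map_dvd _ _)
  · exact PiN'.of_dvd hHX.2 (index_map_dvd _ hf)
  · have h1 : H.subgroupOf X ≤ normalizer ((A.subgroupOf X : Subgroup X) : Set X) := by
      intro x hx
      rw [Subgroup.mem_normalizer_iff]
      intro y
      have h2 := Subgroup.mem_normalizer_iff.1 (hn hx) y
      exact h2
    exact (Subgroup.map_mono h1).trans (Subgroup.le_normalizer_map _)
  · rintro _ ⟨a, ha, rfl⟩ _ ⟨b, hb, rfl⟩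
    rw [← map_mul, ← map_mul]
    exact congrArg f (Subtype.ext (hab a ha b hb))
  · intro h1
    apply hrA
    refine h1.trans ((card_map_dvd _ _).trans ?_)
    exact Subgroup.card_comap_dvd_of_injective _ _ X.subtype_injective
  · intro p hp hd
    refine hidx p hp (hd.trans ?_)
    rw [← Subgroup.relIndex_comap]
    refine (Subgroup.relIndex_dvd_of_le_left _ (Subgroup.le_comap_map f _)).trans ?_
    rw [Subgroup.subgroupOf, Subgroup.relIndex_comap, Subgroup.subgroupOf_map_subtype]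
    exact relIndex_dvd_of_normalizes hAH hn inf_le_left

/-- **the criterion of a single element** `z` of `X` -/
theorem rowM_cover {Y : Type*} {S : Type u} [Group Y] [Finite Y] [Group S] [Finite S] [IsSimpleGroup S]
    (hna : ∃ a b : S, a * b ≠ b * a) (X : Subgroup Y) [X.Normal]
    (f : X →* S) (hf : Function.Surjective f) (hker : f.ker ≤ center X) {r : ℕ} {H A : Subgroup Y}
    (hH : IsPiHall π H) (h : FHd r H A) (hrπ : r ∈ π) {z : X} (hz : f z ≠ 1) (hzr : ∃ k, z ^ r ^ k = 1)
    (heig : ∀ g : X, g * z * g⁻¹ ∈ normalizer ((A.subgroupOf X : Subgroup X) : Set X) →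
      ∀ a ∈ A.subgroupOf X, (g * z * g⁻¹) * a = a * (g * z * g⁻¹)) : RowM π S := by
  refine rowM_of_z_cover f hna (ha_of_FH X f hf hH h) hrπ hf (A' := A.subgroupOf X) le_rfl hz hzr fun _ g hg => ?_
  refine heig g ?_
  obtain ⟨y, hy, hyg⟩ := hg
  have h1 : y⁻¹ * (g * z * g⁻¹) ∈ center X := hker (by rw [MonoidHom.mem_ker, map_mul, map_inv, hyg, inv_mul_cancel])
  have h2 : y ∈ normalizer ((A.subgroupOf X : Subgroup X) : Set X) := by
    rw [Subgroup.mem_normalizer_iff]
    intro x
    exact Subgroup.mem_normalizer_iff.1 (h.nor hy) x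
  have h3 : g * z * g⁻¹ = y * (y⁻¹ * (g * z * g⁻¹)) := by group
  rw [h3]
  exact mul_mem h2 (center_le_normalizer _ h1)

/-- abelian Hall subgroups -/
theorem her_of_not_mem {Y : Type*} {S : Type u} [Group Y] [Finite Y] [Group S] [Finite S] (X : Subgroup Y) [X.Normal]
    (f : X →* S) (hf : Function.Surjective f) {r : ℕ} {H A : Subgroup Y}
    (hH : IsPiHall π H) (h : FHd r H A) (hrπ : r ∉ π ∨ ¬ r ∣ Nat.card H) : Her π S := by
  have h1 : A.relIndex H = 1 := by
    by_contra hne
    obtain ⟨p, hp, hd⟩ := Nat.exists_prime_and_dvd hne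
    have h2 := h.idx p hp hd
    have h3 : p ∣ Nat.card H := hd.trans (Subgroup.index_dvd_card (A.subgroupOf H))
    rcases hrπ with h4 | h4
    · exact h4 (h2 ▸ hH.1 p hp h3)
    · exact h4 (h2 ▸ h3)
  have h2 : A = H := le_antisymm h.ale (relIndex_eq_one.1 h1)
  have h3 := (ha_of_FH X f hf hH h)
  rw [h2] at h3
  refine her_of_nilpotent h3.hall ?_
  have h4 : ∀ a b : ↥((H.subgroupOf X).map f), a * b = b * a := fun a b => Subtype.ext (h3.ab a a.2 b b.2)
  letI : CommGroup ↥((H.subgroupOf X).map f) := { (inferInstance : Group ↥((H.subgroupOf X).map f)) with mul_comm := h4 }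
  infer_instance

/-- **Transfer.** -/
theorem rowM_transfer {Y A : Type*} {S : Type u} [Group Y] [Finite Y] [Group S] [Finite S] [CommGroup A] (h2 : 2 ∉ π)
    (δ : Y →* A) (f : δ.ker →* S) (hf : Function.Surjective f) (hc : f.ker ≤ center δ.ker)
    (habs : ∀ H : Subgroup Y, IsPiHall π H → DomX π δ.ker H → FH H)
    (hrow : ∀ (r : ℕ) (H B : Subgroup Y), IsPiHall π H → DomX π δ.ker H → FHd r H B → r ∈ π → r ∣ Nat.card H → RowM π S) :
    RowM π S := by
  by_cases hD : Dom π S
  · have hQ : Group.IsSolvable (Y ⧸ δ.ker) := by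
      letI : CommGroup (Y ⧸ δ.ker) := { (inferInstance : Group (Y ⧸ δ.ker)) with
        mul_comm := fun a b => QuotientGroup.kerLift_injective δ (by rw [map_mul, map_mul, mul_comm]) }
      infer_instance
    obtain ⟨H, hH, hdom⟩ := exists_domX δ.ker hQ (dom_of_ker h2 f hf hc hD)
    obtain ⟨r, B, hB⟩ := FH.exists (habs H hH hdom)
    by_cases hr : r ∈ π ∧ r ∣ Nat.card H
    · exact hrow r H B hH hdom hB hr.1 hr.2
    · exact her_rowM (her_of_not_mem δ.ker f hf hH hB (not_and_or.1 hr))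
  · exact her_rowM (her_of_not_dom hD)

end Cfsg.Agent.H490.RM
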